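import Cfsg.Agent.H533.T5.SporDefs_m3
import Cfsg.Agent.CpAut.Base
import Mathlib
import Cfsg.Agent.CpAutHe.Row
import Cfsg.Agent.PermParts.Consumer_m3
import Cfsg.Agent.FastGrp
import Cfsg.Agent.Prune
set_option linter.all false
prune_inst 0x7f00000000000000000000000000000000000000000000000000000000000000000000000000000000000000000000000000000000000000000000000000000000000000000000000000000000000000003fffffffffffffffffffffffffffbeffbdffffffff
open scoped Cfsg.Agent.FastGrp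

-- part: H797/T5/Cong
section
/-!
# Transport of the weak rows (helper797)

* `WPair.mulEquiv`, `WRow.of_pairs` : a group isomorphic to a model, all automorphisms of order `p` inner, pairs of
  the model.
-/

set_option autoImplicit false

namespace Cfsg.Agent.H797.T5

open Cfsg.Agent.H533.T5 Subgroup

universe u v

/-- all pairs of elements of order `p` -/
def AllPairs (p : ℕ) (S : Type*) [Group S] : Prop :=
  ∀ x y : S, orderOf x = p → orderOf y = p → WPair p (⊤ : Subgroup S) x y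

theorem AllPairs.congr {S : Type u} {K : Type v} [Group S] [Group K] {p : ℕ} (h : AllPairs p S) (e : K ≃* S) :
    AllPairs p K := by
  intro x y hx hy
  refine (h (e x) (e y) ?_ ?_).of_hom e.toMonoidHom ?_
  · rw [MulEquiv.orderOf_eq, hx]
  · rw [MulEquiv.orderOf_eq, hy]
  · intro z _
    exact ⟨e.symm z, Subgroup.mem_top _, e.apply_symm_apply z⟩

/-- the row of a group isomorphic to a model -/
theorem row_of_model {S : Type u} {K : Type v} [Group S] [Group K] [IsSimpleGroup K] {p : ℕ}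
    (hna : ¬ IsMulCommutative K) (hi : CpAut.AutInner p S) (h : AllPairs p S) (e : K ≃* S) : WRow p K := by
  refine WRow.of_inner hna ?_ (h.congr e)
  intro a ha
  obtain ⟨g, hg⟩ := (hi.congr e.symm) a ha
  exact ⟨g, hg.symm⟩

/-- pairs from a subgroup of index prime to `p` -/
theorem AllPairs.of_sylow {G : Type*} [Group G] [Finite G] {p : ℕ} [Fact p.Prime] {K : Subgroup G}
    (hK : ¬ p ∣ K.index) (h : AllPairs p K) : AllPairs p G :=
  fun _ _ hx hy => WPair.of_sylow hK h hx hy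

end Cfsg.Agent.H797.T5
end

-- part: H797/T5/Extra
section
/-!
# Elements of an extraspecial group `7^(1+2)` up to conjugacy (helper797)

`q p = p q z`, `z` commutes with `p`, `q`: `conj_rep` : every `p^a q^b z^c` with `r ∤ a` is conjugate to a power of
`p q^s`; for `r ∣ a`, `r ∤ b` to a power of `q`.
-/

set_option autoImplicit false

namespace Cfsg.Agent.H797.T5.Extra

variable {G : Type*} [Group G] {p q z : G}

theorem q_p (h : q * p = p * (q * z)) (h2 : Commute z q) (b : ℕ) :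
    q ^ b * p = p * q ^ b * z ^ b := by
  induction b with
  | zero => simp
  | succ b ih =>
    have e : (z ^ b : G) * q = q * z ^ b := (h2.pow_left b).eq
    calc q ^ (b + 1) * p = q ^ b * (q * p) := by rw [pow_succ, mul_assoc]
      _ = q ^ b * p * (q * z) := by rw [h]; group
      _ = p * q ^ b * (z ^ b * q) * z := by rw [ih]; group
      _ = p * q ^ (b + 1) * z ^ (b + 1) := by rw [e, pow_succ, pow_succ]; group

theorem q_p' (h : q * p = p * (q * z)) (h2 : Commute z q) (h1 : Commute z p) (a b : ℕ) :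
    q ^ b * p ^ a = p ^ a * q ^ b * z ^ (a * b) := by
  induction a with
  | zero => simp
  | succ a ih =>
    have e : (z ^ (a * b) : G) * p = p * z ^ (a * b) := (h1.pow_left _).eq
    calc q ^ b * p ^ (a + 1) = q ^ b * p ^ a * p := by rw [pow_succ, mul_assoc]
      _ = p ^ a * q ^ b * (z ^ (a * b) * p) := by rw [ih]; group
      _ = p ^ a * (q ^ b * p) * z ^ (a * b) := by rw [e]; group
      _ = p ^ a * p * q ^ b * (z ^ b * z ^ (a * b)) := by rw [q_p h h2 b]; group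
      _ = p ^ (a + 1) * q ^ b * z ^ ((a + 1) * b) := by
        rw [← pow_add, ← pow_succ, show b + a * b = (a + 1) * b by ring]

theorem mul_pow' (h : q * p = p * (q * z)) (h2 : Commute z q) (h1 : Commute z p) (s a : ℕ) :
    ∃ e : ℕ, (p * q ^ s) ^ a = p ^ a * q ^ (s * a) * z ^ e := by
  induction a with
  | zero => exact ⟨0, by simp⟩
  | succ a ih =>
    obtain ⟨e, he⟩ := ih
    refine ⟨s * a + e, ?_⟩
    have e1 : (z ^ e : G) * (p * q ^ s) = p * q ^ s * z ^ e := ((h1.pow_left e).mul_right ((h2.pow_left e).pow_right s)).eq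
    have e2 : (z ^ (s * a) : G) * q ^ s = q ^ s * z ^ (s * a) := ((h2.pow_left _).pow_right s).eq
    calc (p * q ^ s) ^ (a + 1) = p ^ a * q ^ (s * a) * (z ^ e * (p * q ^ s)) := by rw [pow_succ, he]; group
      _ = p ^ a * (q ^ (s * a) * p) * q ^ s * z ^ e := by rw [e1]; group
      _ = p ^ a * p * q ^ (s * a) * (z ^ (s * a) * q ^ s) * z ^ e := by rw [q_p h h2 _]; group
      _ = p ^ (a + 1) * (q ^ (s * a) * q ^ s) * (z ^ (s * a) * z ^ e) := by rw [e2, pow_succ]; group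
      _ = p ^ (a + 1) * q ^ (s * (a + 1)) * z ^ (s * a + e) := by
        rw [← pow_add, ← pow_add, show s * a + s = s * (a + 1) by ring]

theorem exists_mul {r : ℕ} [Fact r.Prime] {a : ℕ} (ha : ¬ r ∣ a) (b : ℕ) : ∃ s < r, s * a ≡ b [MOD r] := by
  have ha' : (a : ZMod r) ≠ 0 := fun h => ha ((ZMod.natCast_eq_zero_iff a r).1 h)
  refine ⟨((b : ZMod r) * (a : ZMod r)⁻¹).val, ZMod.val_lt _, ?_⟩
  rw [← ZMod.natCast_eq_natCast_iff]
  push_cast
  rw [ZMod.natCast_zmod_val, mul_assoc, inv_mul_cancel₀ ha', mul_one]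

/-- **Conjugacy to powers of representatives.** -/
theorem conj_rep {r : ℕ} [hr : Fact r.Prime] (h : q * p = p * (q * z)) (h2 : Commute z q) (h1 : Commute z p)
    (hq : q ^ r = 1) (hz : z ^ r = 1) {a : ℕ} (ha : ¬ r ∣ a) (b c : ℕ) :
    ∃ s < r, ∃ u : G, u * (p ^ a * q ^ b * z ^ c) * u⁻¹ ∈ Subgroup.zpowers (p * q ^ s) := by
  obtain ⟨s, hs, hsa⟩ := exists_mul ha b
  obtain ⟨e, he⟩ := mul_pow' h h2 h1 s a
  -- `t a + c ≡ e`
  obtain ⟨t, ht, hta⟩ := exists_mul ha (e + (r - 1) * c)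
  refine ⟨s, hs, q ^ t, ?_⟩
  have key : q ^ t * (p ^ a * q ^ b * z ^ c) * (q ^ t)⁻¹ = (p * q ^ s) ^ a := by
    rw [mul_inv_eq_iff_eq_mul, he]
    have e1 : (z ^ (a * t) : G) * q ^ b = q ^ b * z ^ (a * t) := ((h2.pow_left _).pow_right b).eq
    have e2 : (z ^ e : G) * q ^ t = q ^ t * z ^ e := ((h2.pow_left _).pow_right t).eq
    have e3 : q ^ (s * a) = q ^ b := pow_eq_pow_of_modEq hsa hq
    have e4 : z ^ (a * t + c) = z ^ e := by
      apply pow_eq_pow_of_modEq _ hz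
      have h3 : t * a + c ≡ e + (r - 1) * c + c [MOD r] := hta.add_right c
      have h4 : e + (r - 1) * c + c = e + r * c := by
        have h5 : 1 ≤ r := hr.out.one_le
        obtain ⟨k, rfl⟩ := Nat.exists_eq_add_of_le h5
        simp only [Nat.add_sub_cancel_left]
        ring
      rw [h4] at h3
      rw [mul_comm a t]
      refine h3.trans ?_
      have h5 : r * c ≡ 0 [MOD r] := (Nat.modEq_zero_iff_dvd).2 (Dvd.intro c rfl)
      simp [Nat.ModEq]
    calc q ^ t * (p ^ a * q ^ b * z ^ c) = (q ^ t * p ^ a) * q ^ b * z ^ c := by group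
      _ = p ^ a * q ^ t * (z ^ (a * t) * q ^ b) * z ^ c := by rw [q_p' h h2 h1]; group
      _ = p ^ a * (q ^ t * q ^ b) * (z ^ (a * t) * z ^ c) := by rw [e1]; group
      _ = p ^ a * (q ^ b * q ^ t) * z ^ e := by rw [← pow_add z, e4, ← pow_add, ← pow_add, add_comm t b]
      _ = p ^ a * q ^ (s * a) * (z ^ e * q ^ t) := by rw [e3, e2]; group
      _ = p ^ a * q ^ (s * a) * z ^ e * q ^ t := by group
  rw [key]
  exact Subgroup.npow_mem_zpowers _ a

theorem conj_rep' {r : ℕ} [hr : Fact r.Prime] (h : q * p = p * (q * z)) (h2 : Commute z q) (h1 : Commute z p)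
    (hz : z ^ r = 1) {b : ℕ} (hb : ¬ r ∣ b) (c : ℕ) :
    ∃ u : G, u * (q ^ b * z ^ c) * u⁻¹ ∈ Subgroup.zpowers q := by
  obtain ⟨t, ht, htb⟩ := exists_mul hb c
  refine ⟨p ^ t, ?_⟩
  have key : p ^ t * (q ^ b * z ^ c) * (p ^ t)⁻¹ = q ^ b := by
    rw [mul_inv_eq_iff_eq_mul, q_p' h h2 h1, mul_assoc]
    congr 2
    exact (pow_eq_pow_of_modEq htb hz).symm
  rw [key]
  exact Subgroup.npow_mem_zpowers _ b

end Cfsg.Agent.H797.T5.Extra
end

-- part: H797/T5/HeSev
section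
/-!
# The weak pair row of the Held group at `p = 7` (helper797)

* `card_Z` : the central elements of a Sylow 7-subgroup have centralizers of order at most 2058;
* `card_le` : the same for all elements of order 7 (the Sylow 7-subgroup is `⟨P₁, P₂, Z⟩ = 7^(1+2)`);
* `he` : the row.
-/

set_option autoImplicit false
set_option maxRecDepth 100000

namespace Cfsg.Agent.H797.T5.HeSev

open Subgroup Cfsg
open Cfsg.Spor.He (Gen)
open Cfsg.Agent.SporadicB.HePerm hiding wd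
open Cfsg.Agent.SporadicB.HePerm (act wd)
open Cfsg.Agent.FixBN.HeStab Cfsg.Agent.KFacts.He.Lv Cfsg.Agent.CpAutHe.Cnt
open Cfsg.Agent.CpAutHe.Bound (sub_of_chk)
open Cfsg.Agent.CpAutHe.Seven (card_cent_le card_cent_conj orderOf_conj')
open Cfsg.Agent.FixBN.HeCent (P₁ P₂ Z P₁_pow P₂_pow Z_pow comm_P₂_Z comm_P₁_Z P₂_P₁ H_P₂)
open Cfsg.Agent.FixBN.HeData (p1W p2W zW)
open Cfsg.Agent.FixBN.HeSB (P isPGroup_P)

/-! ### The central elements -/

theorem ca : cnt 2058 (tst zW [] [3] 0) = 686 := by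
  rw [Cfsg.Agent.CpAutHe.Cnt.tst_fast]
  decide +kernel

theorem sb : ([1721, 1870, 127, 960].all fun a => elemN a (nx zW [] 0)) = true := by decide +kernel

theorem cb : cnt 2058 (tst zW [1721, 1870, 127, 960] [] 1) = 3 := by
  rw [Cfsg.Agent.CpAutHe.Cnt.tst_fast]
  decide +kernel

theorem sc : ([1090, 1679, 1746, 1784, 1870, 254, 960, 0].all fun a => elemN a (nx zW (nx zW [] 0) 1)) = true := by
  decide +kernel

theorem da : cnt 2058 (tst zW [1090, 1679, 1746, 1784, 1870, 254] [] 32) = 1 := by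
  rw [Cfsg.Agent.CpAutHe.Cnt.tst_fast]
  decide +kernel
theorem db : cnt 2058 (tst zW [254, 960, 0, 1090] [] 8) = 1 := by
  rw [Cfsg.Agent.CpAutHe.Cnt.tst_fast]
  decide +kernel

theorem card_Z : Nat.card ↥(centralizer ({Z} : Set Cfsg.Spor.He)) ≤ 2058 := by
  have hC : ∀ c ∈ centralizer ({wd zW} : Set Cfsg.Spor.He), c * wd zW = wd zW * c := fun c hc =>
    mem_centralizer_singleton_iff.1 hc
  have hC1 : ∀ c ∈ st (centralizer ({wd zW} : Set Cfsg.Spor.He)) 0, c * wd zW = wd zW * c := fun c hc =>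
    hC c (mem_st.1 hc).1
  have hC2 : ∀ c ∈ st (st (centralizer ({wd zW} : Set Cfsg.Spor.He)) 0) 1, c * wd zW = wd zW * c := fun c hc =>
    hC1 c (mem_st.1 hc).1
  have hF1 : ∀ c ∈ st (centralizer ({wd zW} : Set Cfsg.Spor.He)) 0, ∀ f ∈ nx zW [] 0, Fx c f := fun c hc =>
    fx_nx (p := 0) (hC1 c hc) (fun _ hf => absurd hf List.not_mem_nil) (mem_st.1 hc).2
  have hF2 : ∀ c ∈ st (st (centralizer ({wd zW} : Set Cfsg.Spor.He)) 0) 1, ∀ f ∈ nx zW (nx zW [] 0) 1, Fx c f :=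
    fun c hc => fx_nx (p := 1) (hC2 c hc) (hF1 c (mem_st.1 hc).1) (mem_st.1 hc).2
  have hs := sub_of_chk sc
  have h2 : Nat.card ↥(st (st (centralizer ({wd zW} : Set Cfsg.Spor.He)) 0) 1) ≤ 1 := by
    rw [Subgroup.card_le_one_iff_eq_bot, eq_bot_iff_forall]
    intro c hc
    have k := fix_of_one (hC2 c hc) (hF2 c hc)
    have e0 : phi c 0 = 0 := (mem_st.1 (mem_st.1 hc).1).2
    have e1 : phi c 1 = 1 := (mem_st.1 hc).2
    have e2 : phi c 32 = 32 := k 32 [1090, 1679, 1746, 1784, 1870, 254] []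
      (fun a ha => hs (by revert ha; revert a; decide)) da
    have e3 : phi c 8 = 8 := k 8 [254, 960, 0, 1090] []
      (fun a ha => hs (by revert ha; revert a; decide)) db
    have e : ∀ i, phi (1 : Cfsg.Spor.He) i = i := fun i => by rw [map_one]; rfl
    apply eq_of_base
    · rw [e0, e]
    · rw [e1, e]
    · rw [e2, e]
    · rw [e3, e]
  have h1 : Nat.card ↥(st (centralizer ({wd zW} : Set Cfsg.Spor.He)) 0) ≤ 3 * 1 :=
    step hC1 hF1 1 _ [] (sub_of_chk sb) cb h2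
  exact step (F := []) hC (fun _ _ f hf => absurd hf List.not_mem_nil) 0 [] [3] (fun _ h => h) ca h1

/-! ### The representatives -/

/-- an involution commuting with `P₁ P₂^1` -/
def t1 : List Gen :=
  [.e, .d, .g, .d, .c, .f, .d, .c, .d, .f, .d, .c, .d, .c, .f, .d, .e, .d, .e, .d, .a, .b, .a, .b, .a]

/-- an involution commuting with `P₁ P₂^2` -/
def t2 : List Gen :=
  [.g, .d, .f, .b, .c, .d, .c, .b, .d, .c, .d, .g, .c, .e, .b, .c, .d, .e, .b, .c, .d, .e, .b, .c, .d, .e, .b,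
  .c, .d, .e, .b, .c, .d, .e, .b, .c, .d, .e, .b, .d, .e, .f, .d, .c, .d, .c, .f, .d, .e]

/-- an involution commuting with `P₁ P₂^4` -/
def t4 : List Gen :=
  [.a, .d, .b, .e, .d, .c, .b, .e, .d, .c, .b, .e, .d, .c, .b, .e, .d, .c, .b, .e, .d, .c, .b, .e, .d, .c, .b,
  .f, .d, .c, .d, .f, .e, .d, .f, .b, .c, .d, .e, .b, .c, .d, .e, .b, .c, .d, .e, .b, .c, .d, .e, .b, .c, .d,
  .e, .b, .c, .d, .e, .b, .c]

/-- an involution commuting with `P₁ P₂^5` -/
def t5 : List Gen :=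
  [.c, .g, .d, .f, .c, .b, .c, .d, .c, .e, .d, .c, .b, .f, .c, .e, .d, .c]

/-- an involution commuting with `P₁ P₂^6` -/
def t6 : List Gen :=
  [.g, .c, .d, .a, .b, .c, .d, .g, .b, .d, .c, .f, .b, .c, .d, .e, .b, .c, .d, .e, .b, .c, .d, .e, .b, .c, .d,
  .e, .b, .c, .d, .e, .b, .c, .d, .e, .b, .d, .f, .e, .d, .c, .a, .c, .b, .e, .d, .c, .b, .e, .d, .c, .b, .e,
  .d, .c, .b, .e, .d, .c, .b, .e, .d, .c, .b, .e, .d, .c, .b, .f, .a]

/-- an element conjugating `P₁ P₂^0` to a power of `Z` -/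
def g0 : List Gen :=
  [.b, .e, .f, .d, .c, .d, .g, .b, .c, .d, .e, .f, .d, .e]

/-- an element conjugating `P₁ P₂^3` to a power of `Z` -/
def g3 : List Gen :=
  [.e, .f, .d, .c, .d, .c, .b, .c, .d, .c, .f, .e, .a]

/-- the word of `P₁ P₂ ^ s` -/
def rw (s : ℕ) : List Gen := p1W ++ pw p2W s

theorem wd_rw (s : ℕ) : wd (rw s) = P₁ * P₂ ^ s := by
  unfold rw
  rw [Cfsg.Agent.FixBN.HeCent.wd_append, wd_pw]
  rfl

theorem chk7 : ([0, 1, 2, 3, 4, 5, 6].all fun s => chkB (pw (rw s) 7) []) = true := by decide +kernel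

theorem rep_pow {s : ℕ} (hs : s < 7) : (P₁ * P₂ ^ s) ^ 7 = 1 := by
  have h := List.all_eq_true.1 chk7 s (by interval_cases s <;> simp)
  have h2 := eq_of_chkB h
  rw [wd_pw, wd_rw] at h2
  exact h2

/-- An explicit involution commuting with `x`. -/
theorem le_of_inv {x : Cfsg.Spor.He} (hx : orderOf x = 7) {t : List Gen} (i : Fin 2058)
    (h1 : Nat.beq (act t i) i = false) (h2 : chkB (t ++ t) [] = true) (h3 : wd t * x = x * wd t) :
    Nat.card ↥(centralizer ({x} : Set Cfsg.Spor.He)) ≤ 2058 := by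
  refine le_trans (CpAutHe.Seven.card_le hx ?_) (by norm_num)
  have h4 : (wd t) ^ 2 = 1 := by
    have h := eq_of_chkB h2
    rw [Cfsg.Agent.FixBN.HeCent.wd_append] at h
    rw [pow_two, h]
    rfl
  have h5 : wd t ≠ 1 := CpAutHe.Seven.ne_one_of_act i h1
  have h6 : orderOf (wd t) = 2 := orderOf_eq_prime h4 h5
  have h7 : wd t ∈ centralizer ({x} : Set Cfsg.Spor.He) := mem_centralizer_singleton_iff.2 h3
  rw [Nat.not_odd_iff_even, even_iff_two_dvd, ← h6]
  exact Subgroup.orderOf_dvd_natCard _ h7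

theorem le_of_conj {x : Cfsg.Spor.He} (hx : orderOf x = 7) {g : Cfsg.Spor.He} {k : ℕ}
    (h : g * x * g⁻¹ = Z ^ k) : Nat.card ↥(centralizer ({x} : Set Cfsg.Spor.He)) ≤ 2058 := by
  have h7 : Fact (Nat.Prime 7) := ⟨by norm_num⟩
  have hZ : orderOf Z = 7 := by
    refine orderOf_eq_prime Z_pow ?_
    intro h1
    rw [h1, one_pow, mul_inv_eq_one] at h
    have h2 : x = 1 := by simpa using h
    rw [h2, orderOf_one] at hx
    omega
  refine le_trans (card_cent_le hx hZ (u := g) ?_) card_Z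
  rw [h]
  exact Subgroup.npow_mem_zpowers _ k

theorem comm_of_chk {t : List Gen} {s : ℕ} (h : chkB (t ++ rw s) (rw s ++ t) = true) :
    wd t * (P₁ * P₂ ^ s) = P₁ * P₂ ^ s * wd t := by
  have h1 := eq_of_chkB h
  rwa [Cfsg.Agent.FixBN.HeCent.wd_append, Cfsg.Agent.FixBN.HeCent.wd_append, wd_rw] at h1

theorem conj_of_chk {g : List Gen} {s k : ℕ} (h : chkB (g ++ rw s) (pw zW k ++ g) = true) :
    wd g * (P₁ * P₂ ^ s) * (wd g)⁻¹ = Z ^ k := by
  have h1 := eq_of_chkB h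
  rw [Cfsg.Agent.FixBN.HeCent.wd_append, Cfsg.Agent.FixBN.HeCent.wd_append, wd_rw, wd_pw] at h1
  rw [h1, mul_inv_cancel_right]
  rfl

theorem rep_le {s : ℕ} (hs : s < 7) (ho : orderOf (P₁ * P₂ ^ s) = 7) :
    Nat.card ↥(centralizer ({P₁ * P₂ ^ s} : Set Cfsg.Spor.He)) ≤ 2058 := by
  interval_cases s
  · exact le_of_conj ho (conj_of_chk (g := g0) (k := 1) (by decide +kernel))
  · exact le_of_inv ho (t := t1) 5 (by decide +kernel) (by decide +kernel) (comm_of_chk (by decide +kernel))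
  · exact le_of_inv ho (t := t2) 5 (by decide +kernel) (by decide +kernel) (comm_of_chk (by decide +kernel))
  · exact le_of_conj ho (conj_of_chk (g := g3) (k := 5) (by decide +kernel))
  · exact le_of_inv ho (t := t4) 5 (by decide +kernel) (by decide +kernel) (comm_of_chk (by decide +kernel))
  · exact le_of_inv ho (t := t5) 5 (by decide +kernel) (by decide +kernel) (comm_of_chk (by decide +kernel))
  · exact le_of_inv ho (t := t6) 5 (by decide +kernel) (by decide +kernel) (comm_of_chk (by decide +kernel))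

/-! ### The Sylow subgroup -/

theorem cZ1 : Commute Z P₁ := comm_P₁_Z.symm
theorem cZ2 : Commute Z P₂ := comm_P₂_Z.symm

/-- the normal form -/
def NF : Subgroup Cfsg.Spor.He where
  carrier := {x | ∃ a b c : ℕ, x = P₁ ^ a * P₂ ^ b * Z ^ c}
  one_mem' := ⟨0, 0, 0, by simp⟩
  mul_mem' := by
    rintro _ _ ⟨a, b, c, rfl⟩ ⟨a', b', c', rfl⟩
    refine ⟨a + a', b + b', a' * b + c + c', ?_⟩
    have e1 : (Z ^ c : Cfsg.Spor.He) * (P₁ ^ a' * P₂ ^ b') = P₁ ^ a' * P₂ ^ b' * Z ^ c :=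
      ((cZ1.pow_pow c a').mul_right (cZ2.pow_pow c b')).eq
    have e2 : (Z ^ (a' * b) : Cfsg.Spor.He) * P₂ ^ b' = P₂ ^ b' * Z ^ (a' * b) := (cZ2.pow_pow _ b').eq
    calc P₁ ^ a * P₂ ^ b * Z ^ c * (P₁ ^ a' * P₂ ^ b' * Z ^ c')
        = P₁ ^ a * P₂ ^ b * (Z ^ c * (P₁ ^ a' * P₂ ^ b')) * Z ^ c' := by group
      _ = P₁ ^ a * (P₂ ^ b * P₁ ^ a') * P₂ ^ b' * Z ^ c * Z ^ c' := by rw [e1]; group
      _ = P₁ ^ a * P₁ ^ a' * P₂ ^ b * (Z ^ (a' * b) * P₂ ^ b') * Z ^ c * Z ^ c' := by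
        rw [Extra.q_p' P₂_P₁ cZ2 cZ1]; group
      _ = (P₁ ^ a * P₁ ^ a') * (P₂ ^ b * P₂ ^ b') * (Z ^ (a' * b) * Z ^ c * Z ^ c') := by rw [e2]; group
      _ = P₁ ^ (a + a') * P₂ ^ (b + b') * Z ^ (a' * b + c + c') := by
        rw [← pow_add, ← pow_add, ← pow_add, ← pow_add]
  inv_mem' := by
    rintro _ ⟨a, b, c, rfl⟩
    have i1 : ∀ x : Cfsg.Spor.He, x ^ 7 = 1 → ∀ n : ℕ, (x ^ n)⁻¹ = x ^ (6 * n) := by
      intro x hx n
      rw [inv_eq_iff_mul_eq_one, ← pow_add, show n + 6 * n = 7 * n by ring, pow_mul, hx, one_pow]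
    refine ⟨6 * a, 6 * b, 6 * c + 6 * a * (6 * b), ?_⟩
    rw [mul_inv_rev, mul_inv_rev, i1 _ P₁_pow, i1 _ P₂_pow, i1 _ Z_pow]
    have e1 : (Z ^ (6 * c) : Cfsg.Spor.He) * (P₂ ^ (6 * b) * P₁ ^ (6 * a)) =
        P₂ ^ (6 * b) * P₁ ^ (6 * a) * Z ^ (6 * c) := ((cZ2.pow_pow _ _).mul_right (cZ1.pow_pow _ _)).eq
    rw [e1, Extra.q_p' P₂_P₁ cZ2 cZ1, mul_assoc _ (Z ^ _) (Z ^ _), ← pow_add, add_comm (6 * c)]

theorem mem_NF {x : Cfsg.Spor.He} : x ∈ NF ↔ ∃ a b c : ℕ, x = P₁ ^ a * P₂ ^ b * Z ^ c := Iff.rfl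

theorem P_le : P ≤ NF := by
  unfold P
  rw [sup_le_iff, sup_le_iff, zpowers_le, zpowers_le, zpowers_le]
  exact ⟨⟨1, 0, 0, by simp⟩, ⟨0, 1, 0, by simp⟩, ⟨0, 0, 1, by simp⟩⟩

theorem Z_ne : Z ≠ 1 := CpAutHe.Seven.ne_one_of_act 0 (by decide +kernel)

theorem card_P : Nat.card P = 343 := by
  have h7 : Fact (Nat.Prime 7) := ⟨by norm_num⟩
  obtain ⟨n, hn⟩ := IsPGroup.iff_card.mp isPGroup_P
  have hd := P.card_subgroup_dvd_card
  rw [hn, card_he] at hd
  have hn3 : n ≤ 3 := by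
    by_contra hcon
    have h1 : 7 ^ 4 ∣ 4030387200 := (pow_dvd_pow 7 (by omega)).trans hd
    exact absurd h1 (by norm_num)
  have m1 : P₁ ∈ P := mem_sup_left (mem_zpowers _)
  have m2 : P₂ ∈ P := mem_sup_right (mem_sup_left (mem_zpowers _))
  have hnc : ¬ ∀ a b : P, a * b = b * a := by
    intro h
    have h1 : P₂ * P₁ = P₁ * P₂ := congrArg Subtype.val (h ⟨P₂, m2⟩ ⟨P₁, m1⟩)
    rw [P₂_P₁, ← mul_assoc] at h1
    exact Z_ne (mul_eq_left.1 h1)
  interval_cases n
  · exfalso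
    apply hnc
    have : Subsingleton P := by
      rw [pow_zero] at hn
      exact (Nat.card_eq_one_iff_unique.mp hn).1
    exact fun a b => Subsingleton.elim _ _
  · exfalso
    apply hnc
    have hcyc : IsCyclic P := isCyclic_of_prime_card (p := 7) (by simpa using hn)
    letI := IsCyclic.commGroup (α := P)
    exact fun a b => mul_comm a b
  · exfalso
    apply hnc
    exact fun a b => (IsPGroup.isMulCommutative_of_card_eq_prime_sq hn).1.1 a b
  · rw [hn]; norm_num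

theorem index_P : ¬ 7 ∣ P.index := by
  have h := P.card_mul_index
  rw [card_P, card_he] at h
  omega

/-- **The centralizers of the elements of order 7.** -/
theorem card_le {x : Cfsg.Spor.He} (hx : orderOf x = 7) :
    Nat.card ↥(centralizer ({x} : Set Cfsg.Spor.He)) ≤ 2058 := by
  have h7 : Fact (Nat.Prime 7) := ⟨by norm_num⟩
  obtain ⟨g, hg⟩ := H533.T5.exists_conj_mem_of_index index_P hx
  obtain ⟨a, b, c, e⟩ := mem_NF.1 (P_le hg)
  rw [← card_cent_conj g x]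
  have ho : orderOf (g * x * g⁻¹) = 7 := by rw [orderOf_conj', hx]
  set y := g * x * g⁻¹ with hy
  by_cases ha : 7 ∣ a
  · have ha1 : P₁ ^ a = 1 := by
      obtain ⟨k, rfl⟩ := ha
      rw [pow_mul, P₁_pow, one_pow]
    rw [ha1, one_mul] at e
    by_cases hb : 7 ∣ b
    · have hb1 : P₂ ^ b = 1 := by
        obtain ⟨k, rfl⟩ := hb
        rw [pow_mul, P₂_pow, one_pow]
      rw [hb1, one_mul] at e
      exact le_of_conj ho (g := 1) (k := c) (by rw [e]; group)
    · obtain ⟨u, hu⟩ := Extra.conj_rep' P₂_P₁ cZ2 cZ1 Z_pow hb c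
      rw [← e] at hu
      obtain ⟨m, hm⟩ := mem_zpowers_iff.1 hu
      have h1 : (Cfsg.Agent.FixBN.HeCent.H * u) * y * (Cfsg.Agent.FixBN.HeCent.H * u)⁻¹ = Z ^ m := by
        have h2 : (Cfsg.Agent.FixBN.HeCent.H * u) * y * (Cfsg.Agent.FixBN.HeCent.H * u)⁻¹ =
            Cfsg.Agent.FixBN.HeCent.H * (u * y * u⁻¹) * Cfsg.Agent.FixBN.HeCent.H⁻¹ := by group
        rw [h2, ← hm, ← conj_zpow, H_P₂, mul_inv_cancel_right]
      obtain ⟨k, hk⟩ : ∃ k : ℕ, Z ^ m = Z ^ k := by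
        refine ⟨(m % 7).toNat, ?_⟩
        rw [← zpow_natCast, Int.toNat_of_nonneg (Int.emod_nonneg _ (by norm_num))]
        have hz7 : Z ^ (7 : ℤ) = 1 := by exact_mod_cast Z_pow
        conv_lhs => rw [← Int.emod_add_mul_ediv m 7, zpow_add, zpow_mul, hz7, one_zpow, mul_one]
      exact le_of_conj ho (h1.trans hk)
  · obtain ⟨s, hs, u, hu⟩ := Extra.conj_rep P₂_P₁ cZ2 cZ1 P₂_pow Z_pow ha b c
    rw [← e] at hu
    have hs1 : P₁ * P₂ ^ s ≠ 1 := by
      intro h1
      rw [h1, zpowers_one_eq_bot, mem_bot, mul_inv_eq_one] at hu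
      have h2 : y = 1 := by simpa using hu
      rw [h2, orderOf_one] at ho
      omega
    have hso : orderOf (P₁ * P₂ ^ s) = 7 := orderOf_eq_prime (rep_pow hs) hs1
    exact (card_cent_le ho hso hu).trans (rep_le hs hso)

theorem allPairs : AllPairs 7 Cfsg.Spor.He := by
  have h7 : Fact (Nat.Prime 7) := ⟨by norm_num⟩
  intro x y hx hy
  refine H533.T5.wpair_of_count' (n := 3) (by rw [card_he]; norm_num) ?_
  rw [card_he]
  have h1 := Nat.mul_le_mul (card_le hx) (card_le hy)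
  calc _ ≤ 2058 * 2058 * 7 ^ 3 := Nat.mul_le_mul_right _ h1
    _ < 4030387200 := by norm_num

/-- **The row of the Held group.** -/
theorem he (K : Type*) [Group K] [Finite K] [IsSimpleGroup K] (h : Spor.IsoHe K) : H533.T5.WRow 7 K := by
  obtain ⟨e⟩ := h
  refine row_of_model ?_ (CpAutHe.Row.autInner (by norm_num) (by norm_num)) allPairs e
  intro hc
  apply CpAutHe.Seven.not_comm
  exact ⟨⟨fun a b => e.symm.injective (by rw [map_mul, map_mul]; exact hc.is_comm.comm _ _)⟩⟩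

end Cfsg.Agent.H797.T5.HeSev
end
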